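import Cfsg.Agent.PronormalPSL.EvenChar
import Mathlib

/-!
# Bruhat cells of `GL_n` and the unitary involution

For the involution `θ g = J ((g⁻¹)ᵀ)^σ J` every fixed element is `v π b` with `v` a fixed
unitriangular element.
-/

set_option autoImplicit false
set_option linter.unusedSectionVars false

namespace CfsgLib.PronormalPSU

open Matrix CfsgLib.FlagChar
open CfsgLib.PronormalPSL.EvenChar (U mem_U mem_upper upper_conj_mem)
open scoped MatrixGroups

variable {n : ℕ} {F : Type*} [Field F]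

/-- The order reversing permutation. -/
abbrev w0 (n : ℕ) : Equiv.Perm (Fin n) := Fin.revPerm

theorem w0_apply (i : Fin n) : (w0 n) i = i.rev := rfl

theorem w0_mul_w0 : (w0 n) * (w0 n) = 1 := Equiv.ext fun i => by simp

theorem mul_w0_inv_apply (π : Equiv.Perm (Fin n)) (i : Fin n) : (π * (w0 n))⁻¹ i = (π⁻¹ i).rev := by
  rw [show (π * (w0 n))⁻¹ = (w0 n) * π⁻¹ by
    apply inv_eq_of_mul_eq_one_left
    rw [mul_assoc, inv_mul_cancel_left, w0_mul_w0]]
  rfl

theorem permGL_conj_apply (ρ π : Equiv.Perm (Fin n)) (g : GL (Fin n) F) (a c : Fin n) :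
    ((permGL n F ρ)⁻¹ * g * permGL n F π).1 a c = g.1 (ρ a) (π c) := by
  rw [← map_inv, Units.val_mul, Units.val_mul, Matrix.mul_apply,
    Finset.sum_eq_single (π c) (fun x _ hx => by rw [permGL_apply, if_neg hx, mul_zero]) (by simp),
    Matrix.mul_apply,
    Finset.sum_eq_single (ρ a) (fun x _ hx => by
      rw [permGL_apply, if_neg fun e => hx (by rw [e]; simp), zero_mul]) (by simp),
    permGL_apply, permGL_apply, if_pos rfl, if_pos (by simp), one_mul, mul_one]

/-- The conjugate `ρ B ρ⁻¹` of the upper triangular group. -/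
def cjB (ρ : Equiv.Perm (Fin n)) : Subgroup (GL (Fin n) F) :=
  (Cfsg.upperTriangularGL n F).comap (MulAut.conj (permGL n F ρ)⁻¹).toMonoidHom

theorem mem_cjB {ρ : Equiv.Perm (Fin n)} {g : GL (Fin n) F} :
    g ∈ cjB ρ ↔ (permGL n F ρ)⁻¹ * g * permGL n F ρ ∈ Cfsg.upperTriangularGL n F := by
  rw [cjB, Subgroup.mem_comap, MulEquiv.coe_toMonoidHom, MulAut.conj_apply, inv_inv]

theorem mem_cjB_iff {ρ : Equiv.Perm (Fin n)} {g : GL (Fin n) F} :
    g ∈ cjB ρ ↔ ∀ a c : Fin n, c < a → g.1 (ρ a) (ρ c) = 0 := by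
  rw [mem_cjB]
  constructor
  · intro h a c hac
    rw [← permGL_conj_apply]
    exact h hac
  · intro h a c hac
    rw [permGL_conj_apply]
    exact h a c hac

/-- The diagonal group. -/
def D (n : ℕ) (F : Type*) [Field F] : Subgroup (GL (Fin n) F) :=
  Cfsg.upperTriangularGL n F ⊓ cjB (w0 n)

theorem mem_D {g : GL (Fin n) F} : g ∈ D n F ↔ ∀ i j, i ≠ j → g.1 i j = 0 := by
  rw [D, Subgroup.mem_inf, mem_cjB_iff]
  constructor
  · rintro ⟨h1, h2⟩ i j hij
    rcases lt_or_gt_of_ne hij with h | h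
    · have := h2 i.rev j.rev (Fin.rev_lt_rev.2 h)
      simpa using this
    · exact h1 h
  · intro h
    exact ⟨fun i j hij => h i j (ne_of_gt hij), fun a c hac => h _ _ (by simpa using hac.ne')⟩

theorem D_mem_cjB {g : GL (Fin n) F} (hg : g ∈ D n F) (ρ : Equiv.Perm (Fin n)) : g ∈ cjB ρ :=
  mem_cjB_iff.2 fun a c hac => mem_D.1 hg _ _ (by simpa using hac.ne')

theorem eq_one_of_U_of_D {g : GL (Fin n) F} (h1 : g ∈ U n F) (h2 : g ∈ D n F) : g = 1 := by
  apply Units.ext
  ext i j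
  by_cases h : i = j
  · subst h; rw [h1.2 i, Units.val_one, Matrix.one_apply_eq]
  · rw [mem_D.1 h2 i j h, Units.val_one, Matrix.one_apply_ne h]

theorem D_comm {t d : GL (Fin n) F} (ht : t ∈ D n F) (hd : d ∈ D n F) : t * d = d * t := by
  have e : ∀ {M : GL (Fin n) F}, M ∈ D n F → M.1 = Matrix.diagonal fun i => M.1 i i := fun h =>
    Matrix.ext fun i j => by
      by_cases hij : i = j
      · subst hij; simp
      · rw [mem_D.1 h i j hij, Matrix.diagonal_apply_ne _ hij]
  apply Units.ext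
  rw [Units.val_mul, Units.val_mul, e ht, e hd, Matrix.diagonal_mul_diagonal,
    Matrix.diagonal_mul_diagonal]
  simp only [mul_comm]

/-- An upper triangular element is unitriangular times diagonal. -/
theorem exists_U_D {c : GL (Fin n) F} (hc : c ∈ Cfsg.upperTriangularGL n F) :
    ∃ v ∈ U n F, ∃ e ∈ D n F, c = v * e := by
  let e : GL (Fin n) F := .mk'' (Matrix.diagonal fun i => c.1 i i) (by
    rw [Matrix.det_diagonal, ← Matrix.det_of_isUpperTriangular (M := c.1) hc]
    exact (Matrix.isUnit_iff_isUnit_det _).1 c.isUnit)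
  have heD : e ∈ D n F := mem_D.2 fun i j h => Matrix.diagonal_apply_ne _ h
  have he : e ∈ Cfsg.upperTriangularGL n F := heD.1
  refine ⟨c * e⁻¹, ⟨mul_mem hc (inv_mem he), fun i => ?_⟩, e, heD, by group⟩
  have h := PronormalPSL.EvenChar.diag_inv he i
  rw [Units.val_mul, PronormalPSL.EvenChar.diag_mul hc (inv_mem he : e⁻¹ ∈ _)]
  simpa [e] using h

/-- The part `U ∩ ρ B ρ⁻¹` of the unitriangular group. -/
def V (ρ : Equiv.Perm (Fin n)) : Subgroup (GL (Fin n) F) := U n F ⊓ cjB ρ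

/-- The positions that may be non-zero in `V ρ`. -/
def pos (ρ : Equiv.Perm (Fin n)) : Finset (Fin n × Fin n) :=
  Finset.univ.filter fun p => p.1 < p.2 ∧ ρ⁻¹ p.1 < ρ⁻¹ p.2

theorem mem_V {ρ : Equiv.Perm (Fin n)} {g : GL (Fin n) F} :
    g ∈ V ρ ↔ (∀ i, g.1 i i = 1) ∧ ∀ i j, i ≠ j → (i, j) ∉ pos ρ → g.1 i j = 0 := by
  rw [V, Subgroup.mem_inf, mem_U, mem_cjB_iff]
  simp only [pos, Finset.mem_filter, Finset.mem_univ, true_and, not_and, not_lt]
  constructor
  · rintro ⟨⟨h1, h2⟩, h3⟩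
    refine ⟨h2, fun i j hij h => ?_⟩
    rcases lt_or_gt_of_ne hij with hl | hl
    · have := h3 (ρ⁻¹ i) (ρ⁻¹ j) (lt_of_le_of_ne (h hl) fun e => hij (ρ⁻¹.injective e).symm)
      simpa using this
    · exact h1 hl
  · rintro ⟨h1, h2⟩
    refine ⟨⟨fun i j hij => h2 i j (ne_of_gt hij) fun h => absurd h (not_lt.2 (le_of_lt hij)), h1⟩,
      fun a c hac => h2 _ _ (by simpa using hac.ne') fun _ => ?_⟩
    simpa using hac.le

open Classical in
theorem card_V [Fintype F] (ρ : Equiv.Perm (Fin n)) :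
    Nat.card (V (F := F) ρ) = Fintype.card F ^ (pos ρ).card := by
  let mat : (pos ρ → F) → Matrix (Fin n) (Fin n) F := fun f => Matrix.of fun i j =>
    if i = j then 1 else if h : (i, j) ∈ pos ρ then f ⟨(i, j), h⟩ else 0
  have hlt : ∀ {i j}, (i, j) ∈ pos ρ → i < j := fun h => by
    simp only [pos, Finset.mem_filter] at h; exact h.2.1
  have hu : ∀ f, (mat f).BlockTriangular id := fun f i j hij => by
    simp only [id] at hij
    simp only [mat, Matrix.of_apply, if_neg hij.ne']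
    rw [dif_neg fun h => absurd (hlt h) (not_lt.2 hij.le)]
  have hdet : ∀ f, IsUnit (mat f).det := fun f => by
    rw [Matrix.det_of_isUpperTriangular (hu f)]
    simp [mat]
  let e : V (F := F) ρ ≃ (pos ρ → F) :=
    { toFun := fun g p => g.1.1 p.1.1 p.1.2
      invFun := fun f => ⟨GeneralLinearGroup.mk'' (mat f) (hdet f), mem_V.2
        ⟨fun i => show mat f i i = 1 by simp [mat],
         fun i j hij h => show mat f i j = 0 by simp [mat, hij, h]⟩⟩
      left_inv := fun g => by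
        refine Subtype.ext (Units.ext (Matrix.ext fun i j => ?_))
        show mat (fun p => g.1.1 p.1.1 p.1.2) i j = g.1.1 i j
        obtain ⟨h1, h2⟩ := mem_V.1 g.2
        by_cases hij : i = j
        · subst hij; simp [mat, h1 i]
        · by_cases h : (i, j) ∈ pos ρ
          · simp [mat, hij, h]
          · simp [mat, hij, h, h2 i j hij h]
      right_inv := fun f => funext fun p => by
        show mat f p.1.1 p.1.2 = f p
        simp [mat, (hlt p.2).ne, p.2] }
  rw [Nat.card_congr e, Nat.card_eq_fintype_card, Fintype.card_fun, Fintype.card_coe]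

theorem card_pos (π : Equiv.Perm (Fin n)) :
    (pos (π * (w0 n))).card + (pos π).card = (pos (1 : Equiv.Perm (Fin n))).card := by
  rw [← Finset.card_union_of_disjoint]
  · congr 1
    ext ⟨i, j⟩
    simp only [pos, Finset.mem_union, Finset.mem_filter, Finset.mem_univ, true_and, mul_w0_inv_apply,
      Fin.rev_lt_rev]
    constructor
    · rintro (h | h) <;> exact ⟨h.1, by simpa using h.1⟩
    · rintro ⟨h, -⟩
      rcases lt_trichotomy (π⁻¹ i) (π⁻¹ j) with e | e | e
      · exact Or.inr ⟨h, e⟩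
      · exact absurd (π⁻¹.injective e) h.ne
      · exact Or.inl ⟨h, e⟩
  · rw [Finset.disjoint_left]
    intro p h1 h2
    simp only [pos, Finset.mem_filter, mul_w0_inv_apply, Fin.rev_lt_rev] at h1 h2
    exact absurd h2.2.2 (not_lt.2 h1.2.2.le)

theorem V_inf_eq_one {π : Equiv.Perm (Fin n)} {g : GL (Fin n) F} (h1 : g ∈ V (π * (w0 n)))
    (h2 : g ∈ V π) : g = 1 := by
  apply Units.ext
  ext i j
  by_cases h : i = j
  · subst h; rw [(mem_V.1 h1).1, Units.val_one, Matrix.one_apply_eq]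
  · rw [Units.val_one, Matrix.one_apply_ne h]
    by_cases hp : (i, j) ∈ pos π
    · refine (mem_V.1 h1).2 i j h ?_
      simp only [pos, Finset.mem_filter, Finset.mem_univ, true_and] at hp ⊢
      rintro ⟨-, hh⟩
      rw [mul_w0_inv_apply, mul_w0_inv_apply, Fin.rev_lt_rev] at hh
      exact absurd hh (not_lt.2 hp.2.le)
    · exact (mem_V.1 h2).2 i j h hp

/-- `U = V(π w₀) V(π)`. -/
theorem exists_V_mul_V [Fintype F] (π : Equiv.Perm (Fin n)) {u : GL (Fin n) F} (hu : u ∈ U n F) :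
    ∃ v ∈ V (π * (w0 n)), ∃ s ∈ V π, u = v * s := by
  let f : V (F := F) (π * (w0 n)) × V (F := F) π → U n F := fun p =>
    ⟨p.1.1 * p.2.1, mul_mem p.1.2.1 p.2.2.1⟩
  have hinj : Function.Injective f := by
    rintro ⟨⟨a, ha⟩, ⟨b, hb⟩⟩ ⟨⟨a', ha'⟩, ⟨b', hb'⟩⟩ h
    have h' : a * b = a' * b' := congrArg Subtype.val h
    have e : a'⁻¹ * a = b' * b⁻¹ := by
      rw [show b' = a'⁻¹ * (a * b) by rw [h']; group]; group
    have h1 : a'⁻¹ * a = 1 :=
      V_inf_eq_one (mul_mem (inv_mem ha') ha) (e ▸ mul_mem hb' (inv_mem hb))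
    rw [inv_mul_eq_one] at h1
    subst h1
    rw [mul_right_inj] at h'
    subst h'
    rfl
  have hU : U n F = V (1 : Equiv.Perm (Fin n)) := by
    refine le_antisymm (fun g hg => ⟨hg, ?_⟩) inf_le_left
    show g ∈ cjB 1
    rw [mem_cjB, map_one]; simpa using hg.1
  have hcard : Nat.card (U n F) = Nat.card (V (F := F) (π * (w0 n)) × V (F := F) π) := by
    rw [Nat.card_prod, card_V, card_V, ← pow_add, card_pos, hU, card_V]
  obtain ⟨⟨v, s⟩, hp⟩ := ((Nat.bijective_iff_injective_and_card f).2 ⟨hinj, hcard.symm⟩).2 ⟨u, hu⟩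
  exact ⟨v.1, v.2, s.1, s.2, (congrArg Subtype.val hp).symm⟩

/-- Normal form of an element of the cell of `π`. -/
theorem exists_cell [Fintype F] (g : GL (Fin n) F) :
    ∃ π : Equiv.Perm (Fin n), ∃ v ∈ V (π * (w0 n)), ∃ b ∈ Cfsg.upperTriangularGL n F,
      g = v * permGL n F π * b := by
  obtain ⟨b, hb, b', hb', π, rfl⟩ := exists_bruhat g
  obtain ⟨u, hu, e, he, rfl⟩ := exists_U_D hb
  obtain ⟨v, hv, s, hs, rfl⟩ := exists_V_mul_V π hu
  refine ⟨π, v, hv, (permGL n F π)⁻¹ * (s * e) * permGL n F π * b', mul_mem ?_ hb', by group⟩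
  exact mem_cjB.1 (mul_mem hs.2 (D_mem_cjB he π))

/-- Uniqueness of the cell and of the left part. -/
theorem cell_unique {π π' : Equiv.Perm (Fin n)} {v v' b b' : GL (Fin n) F}
    (hv : v ∈ V (π * (w0 n))) (hv' : v' ∈ V (π' * (w0 n)))
    (hb : b ∈ Cfsg.upperTriangularGL n F) (hb' : b' ∈ Cfsg.upperTriangularGL n F)
    (h : v * permGL n F π * b = v' * permGL n F π' * b') : π = π' ∧ v = v' := by
  have hup : (permGL n F π')⁻¹ * (v'⁻¹ * v) * permGL n F π ∈ Cfsg.upperTriangularGL n F := by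
    have : (permGL n F π')⁻¹ * (v'⁻¹ * v) * permGL n F π = b' * b⁻¹ := by
      rw [show b' = (permGL n F π')⁻¹ * v'⁻¹ * (v * permGL n F π * b) by rw [h]; group]; group
    rw [this]; exact mul_mem hb' (inv_mem hb)
  have hw : v'⁻¹ * v ∈ U n F := mul_mem (inv_mem hv'.1) hv.1
  have hle : ∀ a, a ≤ π⁻¹ (π' a) := by
    intro a
    by_contra hc
    have := hup (show id (π⁻¹ (π' a)) < id a from not_le.1 hc)
    rw [permGL_conj_apply] at this
    simp [hw.2] at this
  have hπ : π = π' := by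
    have h1 : π⁻¹ * π' = 1 := by
      refine Equiv.ext fun a => ?_
      induction a using WellFoundedGT.induction with
      | ind a ih =>
        rcases (hle a).lt_or_eq with hl | he
        · have := (π⁻¹ * π').injective (ih _ hl)
          exact absurd this.symm hl.ne
        · exact he.symm
    exact inv_mul_eq_one.1 h1
  subst hπ
  refine ⟨rfl, (inv_mul_eq_one.1 ?_).symm⟩
  exact V_inf_eq_one (mul_mem (inv_mem hv') hv) ⟨hw, mem_cjB.2 hup⟩

/-! ### The involution -/

/-- `g ↦ J ((g⁻¹)ᵀ)^σ J`. -/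
def theta (σ : F →+* F) : GL (Fin n) F →* GL (Fin n) F where
  toFun g := ⟨Matrix.of fun i j => σ ((g⁻¹).1 j.rev i.rev), Matrix.of fun i j => σ (g.1 j.rev i.rev),
    by
      ext i j
      have := congrArg σ (congrFun (congrFun g.mul_inv j.rev) i.rev)
      rw [Matrix.mul_apply, map_sum] at this
      rw [Matrix.mul_apply, ← Equiv.sum_comp (w0 n)]
      simp only [Matrix.of_apply, Fin.revPerm_apply, Fin.rev_rev, ← map_mul]
      rw [Finset.sum_congr rfl fun x _ => congrArg σ (mul_comm _ _), this]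
      by_cases h : i = j <;> simp [Matrix.one_apply, h, eq_comm],
    by
      ext i j
      have := congrArg σ (congrFun (congrFun g.inv_mul j.rev) i.rev)
      rw [Matrix.mul_apply, map_sum] at this
      rw [Matrix.mul_apply, ← Equiv.sum_comp (w0 n)]
      simp only [Matrix.of_apply, Fin.revPerm_apply, Fin.rev_rev, ← map_mul]
      rw [Finset.sum_congr rfl fun x _ => congrArg σ (mul_comm _ _), this]
      by_cases h : i = j <;> simp [Matrix.one_apply, h, eq_comm]⟩
  map_one' := by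
    ext i j
    by_cases h : i = j <;> simp [Matrix.one_apply, h, eq_comm]
  map_mul' g h := by
    ext i j
    simp only [Units.val_mul, Matrix.of_apply, _root_.mul_inv_rev, Matrix.mul_apply, map_sum]
    rw [← Equiv.sum_comp (w0 n)]
    simp [mul_comm]

theorem theta_apply (σ : F →+* F) (g : GL (Fin n) F) (i j : Fin n) :
    (theta σ g).1 i j = σ ((g⁻¹).1 j.rev i.rev) := rfl

theorem theta_upper (σ : F →+* F) {g : GL (Fin n) F} (hg : g ∈ Cfsg.upperTriangularGL n F) :
    theta σ g ∈ Cfsg.upperTriangularGL n F := fun i j hij => by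
  rw [theta_apply, (inv_mem hg : g⁻¹ ∈ _) (show id i.rev < id j.rev from Fin.rev_lt_rev.2 hij), map_zero]

theorem theta_U (σ : F →+* F) {g : GL (Fin n) F} (hg : g ∈ U n F) : theta σ g ∈ U n F :=
  ⟨theta_upper σ hg.1, fun i => by rw [theta_apply, (inv_mem hg : g⁻¹ ∈ U n F).2, map_one]⟩

theorem theta_permGL (σ : F →+* F) (π : Equiv.Perm (Fin n)) :
    theta σ (permGL n F π) = permGL n F ((w0 n) * π * (w0 n)) := by
  ext i j
  rw [theta_apply, ← map_inv, permGL_apply, permGL_apply]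
  have : j.rev = π⁻¹ i.rev ↔ i = ((w0 n) * π * (w0 n)) j := by
    simp [Equiv.Perm.inv_def, Equiv.eq_symm_apply, eq_comm, Fin.rev_eq_iff, Equiv.Perm.mul_apply]
  simp only [this]
  split <;> simp

theorem theta_cjB (σ : F →+* F) {ρ : Equiv.Perm (Fin n)} {g : GL (Fin n) F} (hg : g ∈ cjB ρ) :
    theta σ g ∈ cjB ((w0 n) * ρ * (w0 n)) := by
  rw [mem_cjB] at hg ⊢
  have := theta_upper σ hg
  rwa [map_mul, map_mul, map_inv, theta_permGL] at this

theorem theta_D (σ : F →+* F) {g : GL (Fin n) F} (hg : g ∈ D n F) : theta σ g ∈ D n F := by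
  refine ⟨theta_upper σ hg.1, ?_⟩
  have := theta_cjB σ hg.2
  rwa [show ((w0 n) * (w0 n) * (w0 n) : Equiv.Perm (Fin n)) = (w0 n) from
    Equiv.ext fun x => by simp] at this

theorem theta_V (σ : F →+* F) {π : Equiv.Perm (Fin n)} {g : GL (Fin n) F}
    (hg : g ∈ V (π * (w0 n))) :
    theta σ g ∈ V (((w0 n) * π * (w0 n)) * (w0 n)) := by
  refine ⟨theta_U σ hg.1, ?_⟩
  have := theta_cjB σ hg.2
  rwa [show ((w0 n) * (π * (w0 n)) * (w0 n) : Equiv.Perm (Fin n)) =
    (w0 n) * π * (w0 n) * (w0 n) by simp [mul_assoc]] at this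

/-- A fixed element is `v π b` with fixed `v`. -/
theorem exists_cell_fixed [Fintype F] (σ : F →+* F) {g : GL (Fin n) F} (hg : theta σ g = g) :
    ∃ π : Equiv.Perm (Fin n), ∃ v ∈ U n F, theta σ v = v ∧ ∃ b ∈ Cfsg.upperTriangularGL n F,
      g = v * permGL n F π * b := by
  obtain ⟨π, v, hv, b, hb, rfl⟩ := exists_cell g
  rw [map_mul, map_mul, theta_permGL] at hg
  exact ⟨π, v, hv.1, (cell_unique (theta_V σ hv) hv (theta_upper σ hb) hb hg).2, b, hb, rfl⟩

/-- The parts of a fixed upper triangular element are fixed. -/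
theorem exists_U_D_fixed (σ : F →+* F) {g : GL (Fin n) F} (hg : theta σ g = g)
    (hu : g ∈ Cfsg.upperTriangularGL n F) :
    ∃ v ∈ U n F, theta σ v = v ∧ ∃ e ∈ D n F, g = v * e := by
  obtain ⟨v, hv, e, he, rfl⟩ := exists_U_D hu
  refine ⟨v, hv, (inv_mul_eq_one.1 (eq_one_of_U_of_D (mul_mem (inv_mem hv) (theta_U σ hv)) ?_)).symm,
    e, he, rfl⟩
  rw [map_mul] at hg
  rw [show v⁻¹ * theta σ v = e * (theta σ e)⁻¹ by
    rw [show theta σ v = v * e * (theta σ e)⁻¹ by rw [← hg]; group]; group]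
  exact mul_mem he (inv_mem (theta_D σ he))

end CfsgLib.PronormalPSU
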