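import Cfsg.Agent.PronormalPSU.Cells
import Cfsg.Agent.PronormalPSL.Descent
import Cfsg.Agent.FieldEmb.Basic
import Cfsg.Agent.Forms4.UnitaryCenter

/-!
# Odd index subgroups of `SU_n(2^a)`, `n` even
-/

set_option autoImplicit false
set_option linter.unusedSectionVars false

namespace CfsgLib.PronormalPSU.EvenChar

open Matrix CfsgLib.FlagChar CfsgLib.PronormalPSU CfsgLib.PronormalPSL
open CfsgLib.PronormalPSL.EvenChar (U mem_U upper_conj_mem isPGroup_U det_of_mem_U diag_mul)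
open scoped MatrixGroups

variable {n : ℕ} {F : Type*} [Field F]

/-- The special unitary group of the antidiagonal hermitian form. -/
def M (n : ℕ) (σ : F →+* F) : Subgroup (GL (Fin n) F) :=
  MonoidHom.eqLocus (theta σ) (MonoidHom.id _) ⊓ Matrix.GeneralLinearGroup.det.ker

theorem mem_M {σ : F →+* F} {g : GL (Fin n) F} : g ∈ M n σ ↔ theta σ g = g ∧ g.1.det = 1 := by
  rw [M, Subgroup.mem_inf, MonoidHom.mem_ker, Units.ext_iff (u := Matrix.GeneralLinearGroup.det g)]
  exact Iff.rfl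

variable {σ : F →+* F}

/-- Adjacent pairs of positions. -/
def rel (k : ℕ) (a b : Fin n) : Prop :=
  (a.val = k ∧ b.val = k + 1) ∨ (a.val + k + 2 = n ∧ b.val + k + 1 = n)

theorem exists_superdiag [CharP F 2] (hn : Even n) {k : ℕ} (hk : k + 1 < n) :
    ∃ T ∈ M n σ, T ∈ U n F ∧ T.1 ⟨k, by omega⟩ ⟨k + 1, hk⟩ = 1 := by
  classical
  obtain ⟨m, rfl⟩ := hn
  let N : Matrix (Fin (m + m)) (Fin (m + m)) F :=
    Matrix.of fun a b => if rel k a b then 1 else 0
  have hN : N * N = 0 := by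
    ext a b
    rw [Matrix.mul_apply, Matrix.zero_apply]
    refine Finset.sum_eq_zero fun x _ => ?_
    simp only [N, Matrix.of_apply]
    by_cases h1 : rel k a x
    · by_cases h2 : rel k x b
      · unfold rel at h1 h2; omega
      · simp [h2]
    · simp [h1]
  have hTT : (1 + N) * (1 + N) = 1 := by
    rw [Matrix.add_mul, Matrix.mul_add, Matrix.mul_add, hN, Matrix.one_mul, Matrix.mul_one, Matrix.one_mul,
      add_zero, add_assoc]
    ext a b
    simp [CharTwo.add_self_eq_zero]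
  let T : GL (Fin (m + m)) F := ⟨1 + N, 1 + N, hTT, hTT⟩
  have hfix : theta σ T = T := by
    refine Units.ext (Matrix.ext fun a b => ?_)
    rw [theta_apply]
    show σ ((1 + N) b.rev a.rev) = (1 + N) a b
    have h1 : rel k b.rev a.rev ↔ rel k a b := by
      have := a.2; have := b.2
      simp only [rel, Fin.val_rev]; omega
    simp only [N, Matrix.add_apply, Matrix.one_apply, Matrix.of_apply, h1, Fin.rev_inj, eq_comm (a := b)]
    by_cases e : a = b <;> by_cases e' : rel k a b <;> simp [e, e']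
  have hU : T ∈ U (m + m) F := by
    refine ⟨fun a b hab => ?_, fun a => ?_⟩
    · show (1 + N) a b = 0
      have hv : b.val < a.val := hab
      have h1 : ¬ rel k a b := by unfold rel; omega
      simp [N, Matrix.one_apply, h1, Fin.ext_iff, hv.ne']
    · show (1 + N) a a = 1
      have h1 : ¬ rel k a a := by unfold rel; omega
      simp [N, h1]
  refine ⟨T, mem_M.2 ⟨hfix, det_of_mem_U hU⟩, hU, ?_⟩
  show (1 + N) ⟨k, _⟩ ⟨k + 1, hk⟩ = 1
  have h1 : rel (n := m + m) k ⟨k, by omega⟩ ⟨k + 1, hk⟩ := Or.inl ⟨rfl, rfl⟩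
  simp [N, Matrix.one_apply, h1]

theorem superdiag_mul {A B : Matrix (Fin n) (Fin n) F} (hA : A.BlockTriangular id)
    (hB : B.BlockTriangular id) {k : ℕ} (hk : k + 1 < n) :
    (A * B) ⟨k, by omega⟩ ⟨k + 1, hk⟩ =
      A ⟨k, by omega⟩ ⟨k, by omega⟩ * B ⟨k, by omega⟩ ⟨k + 1, hk⟩ +
      A ⟨k, by omega⟩ ⟨k + 1, hk⟩ * B ⟨k + 1, hk⟩ ⟨k + 1, hk⟩ := by
  rw [Matrix.mul_apply]
  refine Finset.sum_eq_add (⟨k, by omega⟩ : Fin n) ⟨k + 1, hk⟩ (by simp [Fin.ext_iff]) ?_ (by simp) (by simp)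
  rintro c - ⟨h1, h2⟩
  simp only [ne_eq, Fin.ext_iff] at h1 h2
  rcases lt_or_gt_of_ne h1 with h | h
  · rw [hA (show id c < id (⟨k, by omega⟩ : Fin n) from h), zero_mul]
  · rw [hB (show id (⟨k + 1, hk⟩ : Fin n) < id c from show k + 1 < c.val by omega), mul_zero]

/-- The unitriangular part. -/
def Uu (n : ℕ) (σ : F →+* F) : Subgroup (M n σ) := (U n F).subgroupOf (M n σ)

variable [Fintype F]

theorem upper_of_conj [CharP F 2] (hn : Even n) {g : M n σ} (h : ∀ x ∈ Uu n σ, g * x * g⁻¹ ∈ Uu n σ) :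
    (g : GL (Fin n) F) ∈ Cfsg.upperTriangularGL n F := by
  obtain ⟨π, v, hv, -, b, hb, hg⟩ := exists_cell_fixed σ (mem_M.1 g.2).1
  rcases n with _ | m
  · intro i; exact i.elim0
  have hmono : StrictMono π := by
    rw [Fin.strictMono_iff_lt_succ]
    intro i
    have hk : i.val + 1 < m + 1 := by have := i.2; omega
    obtain ⟨T, hT, hTU, hT1⟩ := exists_superdiag (σ := σ) hn hk
    have hy : b * T * b⁻¹ ∈ U (m + 1) F := upper_conj_mem hb hTU
    set y := b * T * b⁻¹ with hydef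
    have hyne : y.1 i.castSucc i.succ ≠ 0 := by
      intro h0
      have e : y * b = b * T := by rw [hydef]; group
      have e' := congrFun (congrFun (congrArg (fun u : GL (Fin (m + 1)) F => u.1) e) i.castSucc) i.succ
      simp only [Units.val_mul] at e'
      change (y.1 * b.1) ⟨i.val, _⟩ ⟨i.val + 1, hk⟩ = (b.1 * T.1) ⟨i.val, _⟩ ⟨i.val + 1, hk⟩ at e'
      rw [superdiag_mul hy.1 hb hk, superdiag_mul hb hTU.1 hk, hy.2, hTU.2, hT1, one_mul, mul_one, mul_one,
        show y.1 ⟨i.val, _⟩ ⟨i.val + 1, hk⟩ = 0 from h0, zero_mul, add_zero] at e'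
      have hb0 : b.1 ⟨i.val, by omega⟩ ⟨i.val, by omega⟩ = 0 := by linear_combination -e'
      have := PronormalPSL.EvenChar.diag_inv hb ⟨i.val, by omega⟩
      rw [hb0, zero_mul] at this
      exact zero_ne_one this
    have hconj : permGL (m + 1) F π * y * (permGL (m + 1) F π)⁻¹ ∈ U (m + 1) F := by
      have h1 := h ⟨T, hT⟩ hTU
      change (g.1 * T * g.1⁻¹ : GL (Fin (m + 1)) F) ∈ U (m + 1) F at h1
      have h2 := upper_conj_mem (inv_mem hv.1) h1
      rw [hg] at h2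
      convert h2 using 1
      simp only [y]; group
    have hne : π i.castSucc ≠ π i.succ := fun e => (Fin.castSucc_lt_succ (i := i)).ne (π.injective e)
    by_contra hlt
    refine hyne ?_
    have h0 := hconj.1 (show id (π i.succ) < id (π i.castSucc) from lt_of_le_of_ne (not_lt.1 hlt) hne.symm)
    have h3 := permGL_conj_apply π π (permGL (m + 1) F π * y * (permGL (m + 1) F π)⁻¹) i.castSucc i.succ
    rw [h0, show (permGL (m + 1) F π)⁻¹ * (permGL (m + 1) F π * y * (permGL (m + 1) F π)⁻¹) *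
      permGL (m + 1) F π = y by group] at h3
    exact h3
  rw [hg, show π = 1 from Equiv.ext fun i => congrFun hmono.eq_id i, map_one, mul_one]
  exact mul_mem hv.1 hb

theorem exists_sylow [CharP F 2] (hn : Even n) :
    ∃ S : Sylow 2 (M n σ), (S : Subgroup (M n σ)) = Uu n σ := by
  haveI : Fact (Nat.Prime 2) := ⟨Nat.prime_two⟩
  refine exists_sylow_of_normalizer ?_ fun g hg ⟨k, hk⟩ => ?_
  · rintro ⟨⟨g, hgM⟩, hg⟩
    obtain ⟨k, hk⟩ := isPGroup_U g hg
    exact ⟨k, Subtype.ext (Subtype.ext (by simpa using hk))⟩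
  · have hup := upper_of_conj hn fun x hx => (Subgroup.mem_normalizer_iff.1 hg x).1 hx
    refine ⟨hup, fun i => ?_⟩
    change g.1.1 i i = 1
    have hpow : ∀ l : ℕ, (g.1 ^ l).1 i i = (g.1.1 i i) ^ l := by
      intro l
      induction l with
      | zero => simp
      | succ l ih => rw [pow_succ, Units.val_mul, diag_mul (pow_mem hup l :) hup, ih, pow_succ]
    have h1 := hpow (2 ^ k)
    rw [show g.1 ^ 2 ^ k = 1 from congrArg Subtype.val hk, Units.val_one, Matrix.one_apply_eq] at h1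
    have h2 : (g.1.1 i i - 1) ^ 2 ^ k = 0 := by rw [sub_pow_char_pow, one_pow, ← h1, sub_self]
    exact sub_eq_zero.1 (eq_zero_of_pow_eq_zero h2)

theorem upper_split {a : M n σ} (ha : (a : GL (Fin n) F) ∈ Cfsg.upperTriangularGL n F) :
    ∃ u ∈ Uu n σ, ∃ d : M n σ, a = u * d ∧ (d : GL (Fin n) F) ∈ D n F := by
  obtain ⟨v, hv, hvf, e, he, hae⟩ := exists_U_D_fixed σ (mem_M.1 a.2).1 ha
  have hvM : v ∈ M n σ := mem_M.2 ⟨hvf, det_of_mem_U hv⟩
  refine ⟨⟨v, hvM⟩, hv, ⟨v, hvM⟩⁻¹ * a, by group, ?_⟩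
  show v⁻¹ * a.1 ∈ D n F
  rw [hae, inv_mul_cancel_left]; exact he

theorem D_conj_Uu {t x : M n σ} (ht : (t : GL (Fin n) F) ∈ D n F) (hx : x ∈ Uu n σ) :
    t * x * t⁻¹ ∈ Uu n σ :=
  upper_conj_mem ht.1 hx

theorem diagonal_normalizes [CharP F 2] (hn : Even n) {H : Subgroup (M n σ)} (hU : Uu n σ ≤ H)
    {t h : M n σ} (ht : (t : GL (Fin n) F) ∈ D n F) (hh : h ∈ H) : t * h * t⁻¹ ∈ H := by
  classical
  haveI : Fact (Nat.Prime 2) := ⟨Nat.prime_two⟩
  -- `K` is generated by the conjugates of `Uu` in `H`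
  set K := ⨆ x : H, cj x.1 (Uu n σ) with hK
  have hKH : K ≤ H := iSup_le fun x => by
    rintro y hy
    rw [mem_cj] at hy
    have := mul_mem (mul_mem x.2 (hU hy)) (inv_mem x.2)
    simpa [mul_assoc] using this
  have hUK : Uu n σ ≤ K := le_iSup_of_le (⟨1, one_mem H⟩ : H) (by rw [cj_one])
  -- the torus normalises every generator
  have hKt : ∀ y ∈ K, t * y * t⁻¹ ∈ K := by
    suffices ∀ x : H, cj t (cj x.1 (Uu n σ)) ≤ K by
      intro y hy
      have h1 : cj t K ≤ K := by rw [hK, cj, Subgroup.map_iSup]; exact iSup_le this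
      exact h1 ⟨y, hy, rfl⟩
    intro x z hz
    rw [mem_cj, mem_cj] at hz
    obtain ⟨π, v, hv, hvf, b, hb, hg⟩ := exists_cell_fixed σ (mem_M.1 x.1.2).1
    set v' : M n σ := ⟨v, mem_M.2 ⟨hvf, det_of_mem_U hv⟩⟩ with hv'def
    have hv' : v' ∈ Uu n σ := hv
    -- the element `v'⁻¹ x` of `H` gives the torus-invariant conjugate
    have hy : v'⁻¹ * x.1 ∈ H := mul_mem (inv_mem (hU hv')) x.2
    set y : H := ⟨v'⁻¹ * x.1, hy⟩
    have hyt : cj t (cj y.1 (Uu n σ)) ≤ cj y.1 (Uu n σ) := by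
      intro w hw
      rw [mem_cj, mem_cj] at hw
      rw [mem_cj]
      set s := (v'⁻¹ * x.1)⁻¹ * t * (v'⁻¹ * x.1)
      have hs : (s : GL (Fin n) F) ∈ Cfsg.upperTriangularGL n F := by
        show (v⁻¹ * x.1.1)⁻¹ * t.1 * (v⁻¹ * x.1.1) ∈ _
        rw [hg, show (v⁻¹ * (v * permGL n F π * b))⁻¹ * t.1 * (v⁻¹ * (v * permGL n F π * b)) =
          b⁻¹ * ((permGL n F π)⁻¹ * t.1 * permGL n F π) * b by group]
        exact mul_mem (mul_mem (inv_mem hb) (mem_cjB.1 (D_mem_cjB ht π))) hb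
      have : (y.1)⁻¹ * w * y.1 = s * ((y.1)⁻¹ * (t⁻¹ * w * t) * y.1) * s⁻¹ := by
        simp only [y, s]; group
      rw [this]
      exact upper_conj_mem hs hw
    -- transport back
    have hmem : (t * v'⁻¹ * t⁻¹) * z * (t * v'⁻¹ * t⁻¹)⁻¹ ∈ cj y.1 (Uu n σ) := by
      apply hyt
      rw [mem_cj, mem_cj]
      simp only [y]
      convert hz using 1
      group
    have hyK : cj y.1 (Uu n σ) ≤ K := le_iSup (fun x : H => cj x.1 (Uu n σ)) y
    have hw := hUK (D_conj_Uu ht (inv_mem hv'))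
    exact (K.mul_mem_cancel_left hw).1 ((K.mul_mem_cancel_right (inv_mem hw)).1 (hyK hmem))
  -- Frattini argument
  obtain ⟨S, hS⟩ := exists_sylow (σ := σ) hn
  have hSK : (S : Subgroup (M n σ)) ≤ K := hS ▸ hUK
  have hhK : ((h • S : Sylow 2 (M n σ)) : Subgroup (M n σ)) ≤ K := by
    rw [coe_smul_eq_cj, hS]
    exact le_iSup (fun x : H => cj x.1 (Uu n σ)) ⟨h, hh⟩
  obtain ⟨k, hk⟩ := MulAction.exists_smul_eq K (S.subtype hSK) ((h • S).subtype hhK)
  rw [Sylow.smul_subtype] at hk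
  have hk' : k.1 • S = h • S := Sylow.subtype_injective hk
  have hn' : cj ((k.1)⁻¹ * h) (Uu n σ) = Uu n σ := by
    rw [← hS, ← cj_cj, ← coe_smul_eq_cj, ← hk', coe_smul_eq_cj, cj_cj, inv_mul_cancel, cj_one]
  have hup := upper_of_conj hn (g := (k.1)⁻¹ * h) fun x hx => hn' ▸ mem_cj.2 (by simpa [mul_assoc] using hx)
  obtain ⟨u, hu, d, hud, hd⟩ := upper_split hup
  have hdH : d ∈ H := by
    have : d = u⁻¹ * ((k.1)⁻¹ * h) := by rw [hud]; group
    rw [this]
    exact mul_mem (inv_mem (hU hu)) (mul_mem (inv_mem (hKH k.2)) hh)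
  have he : h = k.1 * u * d := by
    rw [mul_assoc, ← hud]; group
  have hcomm : t * d = d * t := Subtype.ext (D_comm ht hd)
  rw [he, show t * (k.1 * u * d) * t⁻¹ = (t * k.1 * t⁻¹) * (t * u * t⁻¹) * (t * d * t⁻¹) by group,
    hcomm, mul_inv_cancel_right]
  exact mul_mem (mul_mem (hKH (hKt _ k.2)) (hU (D_conj_Uu ht hu))) hdH

/-- Odd index subgroups of `M` are pronormal. -/
theorem pronormal [CharP F 2] (hn : Even n) (H : Subgroup (M n σ)) (hH : Odd H.index) :
    Cfsg.IsPronormal H := by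
  haveI : Fact (Nat.Prime 2) := ⟨Nat.prime_two⟩
  obtain ⟨S, hS⟩ := exists_sylow (σ := σ) hn
  refine pronormal_of_normalizer S (fun K hK g hg => ?_) H (Nat.two_dvd_ne_zero.2 (Nat.odd_iff.1 hH))
  rw [hS] at hK hg
  have hup := upper_of_conj hn (g := g) fun x hx => hg ▸ mem_cj.2 (by simpa [mul_assoc] using hx)
  obtain ⟨u, hu, d, rfl, hd⟩ := upper_split hup
  refine Subgroup.eq_of_le_of_card_ge ?_ (Subgroup.card_map_of_injective (MulAut.conj (u * d)).injective).ge
  rintro y ⟨x, hx, rfl⟩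
  show u * d * x * (u * d)⁻¹ ∈ K
  rw [show u * d * x * (u * d)⁻¹ = u * (d * x * d⁻¹) * u⁻¹ by group]
  exact mul_mem (mul_mem (hK hu) (diagonal_normalizes hn hK hd hx)) (inv_mem (hK hu))

/-! ### Change of basis -/

theorem fixed_iff (hσσ : ∀ x, σ (σ x) = x) (g : GL (Fin n) F) :
    theta σ g = g ↔
      g.1ᵀ * (Matrix.of fun i j => if j = i.rev then (1 : F) else 0) * g.1.map σ =
        Matrix.of fun i j => if j = i.rev then (1 : F) else 0 := by
  set J : Matrix (Fin n) (Fin n) F := Matrix.of fun i j => if j = i.rev then (1 : F) else 0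
  have hJ : ∀ (A : Matrix (Fin n) (Fin n) F) i j, (J * A) i j = A i.rev j := fun A i j => by
    rw [Matrix.mul_apply, Finset.sum_eq_single i.rev (fun c _ hc => by simp [J, hc]) (by simp)]
    simp [J]
  have hJ' : ∀ (A : Matrix (Fin n) (Fin n) F) i j, (A * J) i j = A i j.rev := fun A i j => by
    rw [Matrix.mul_apply, Finset.sum_eq_single j.rev (fun c _ hc => by
      simp [J, show j ≠ c.rev from fun e => hc (by rw [e, Fin.rev_rev])]) (by simp)]
    simp [J]
  have hmain : theta σ g = g ↔ J * (g⁻¹).1ᵀ * J = g.1.map σ := by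
    constructor
    · intro h
      ext i j
      rw [hJ', hJ, Matrix.transpose_apply, Matrix.map_apply]
      have := congrArg (fun u : GL (Fin n) F => σ (u.1 i j)) h
      simpa [theta_apply, hσσ] using this
    · intro h
      refine Units.ext (Matrix.ext fun i j => ?_)
      have := congrArg σ (congrFun (congrFun h i) j)
      rw [hJ', hJ, Matrix.transpose_apply, Matrix.map_apply, hσσ] at this
      rw [theta_apply]; exact this
  have hJJ : J * J = 1 := by
    ext i j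
    rw [hJ]; simp [J, Matrix.one_apply, eq_comm]
  have hgi : g.1ᵀ * (g⁻¹).1ᵀ = 1 := by
    rw [← Matrix.transpose_mul, ← Units.val_mul, inv_mul_cancel, Units.val_one, Matrix.transpose_one]
  have hgi' : (g⁻¹).1ᵀ * g.1ᵀ = 1 := by
    rw [← Matrix.transpose_mul, ← Units.val_mul, mul_inv_cancel, Units.val_one, Matrix.transpose_one]
  rw [hmain]
  constructor
  · intro h
    rw [← h, show g.1ᵀ * J * (J * (g⁻¹).1ᵀ * J) = g.1ᵀ * ((J * J) * (g⁻¹).1ᵀ) * J by
      simp only [Matrix.mul_assoc], hJJ, Matrix.one_mul, hgi, Matrix.one_mul]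
  · intro h
    have e : J * (g⁻¹).1ᵀ * (g.1ᵀ * J * g.1.map σ) = J * ((g⁻¹).1ᵀ * g.1ᵀ) * J * g.1.map σ := by
      simp only [Matrix.mul_assoc]
    rw [h, hgi', Matrix.mul_one, hJJ, Matrix.one_mul] at e
    exact e

theorem exists_basis [CharP F 2] (hn : Even n) (hσ1 : σ ≠ RingHom.id F) (hσσ : ∀ x, σ (σ x) = x) :
    ∃ P : GL (Fin n) F,
      P.1ᵀ * P.1.map σ = Matrix.of fun i j => if j = i.rev then (1 : F) else 0 := by
  obtain ⟨x, hx⟩ : ∃ x, σ x ≠ x := by
    by_contra h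
    simp only [not_exists, not_not] at h
    exact hσ1 (RingHom.ext h)
  have hs : x + σ x ≠ 0 := fun e => hx (CharTwo.add_eq_zero.1 e).symm
  obtain ⟨c, hc⟩ : ∃ c, c + σ c = 1 := ⟨x / (x + σ x), by
    rw [map_div₀, map_add, hσσ, add_comm (σ x) x, ← add_div, div_self hs]⟩
  obtain ⟨m, rfl⟩ := hn
  let Q : Matrix (Fin (m + m)) (Fin (m + m)) F := Matrix.of fun a i =>
    if a = i then (if i.val < m then 1 else c + 1) else if a = i.rev then (if i.val < m then 1 else c) else 0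
  have hgram : Qᵀ * Q.map σ = Matrix.of fun i j => if j = i.rev then (1 : F) else 0 := by
    ext i j
    have hir : i.rev ≠ i := fun e => by
      have := congrArg Fin.val e
      rw [Fin.val_rev] at this
      have := i.2; omega
    have hrev : (i.rev.val < m) ↔ ¬ i.val < m := by
      have := i.2; rw [Fin.val_rev]; omega
    rw [Matrix.mul_apply, Finset.sum_eq_add i i.rev hir.symm (fun a _ ha => by
        simp [Q, ha.1, ha.2]) (by simp) (by simp), Matrix.of_apply]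
    have h2 : (2 : F) = 0 := CharTwo.two_eq_zero
    by_cases hji : j = i
    · subst hji
      by_cases hlt : j.val < m <;> simp [Q, hir, hir.symm, hlt]
      · exact CharTwo.add_self_eq_zero 1
      · linear_combination hc + (c * σ c + 1) * h2
    · by_cases hjr : j = i.rev
      · subst hjr
        by_cases hlt : i.val < m
        · have h' : ¬ (m + m - (i.val + 1) < m) := by have := i.2; omega
          simp [Q, hir, hir.symm, hlt, h']
          linear_combination (σ c) * h2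
        · have h' : m + m - (i.val + 1) < m := by have := i.2; omega
          simp [Q, hir, hir.symm, hlt, h']
          linear_combination c * h2
      · have : i ≠ j.rev := fun e => hjr (by rw [e, Fin.rev_rev])
        simp [Q, hji, hjr, Ne.symm hji, this, Ne.symm hjr, show i.rev ≠ j.rev from fun e => hji (Fin.rev_injective e).symm]
  refine ⟨GeneralLinearGroup.mk'' Q ?_, hgram⟩
  refine isUnit_iff_ne_zero.2 fun h0 => ?_
  have := congrArg Matrix.det hgram
  rw [Matrix.det_mul, Matrix.det_transpose, h0, zero_mul] at this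
  have hJ : (Matrix.of fun i j : Fin (m + m) => if j = i.rev then (1 : F) else 0) *
      (Matrix.of fun i j => if j = i.rev then (1 : F) else 0) = 1 := by
    ext i j
    rw [Matrix.mul_apply, Finset.sum_eq_single i.rev (fun a _ ha => by simp [ha]) (by simp)]
    simp [Matrix.one_apply, eq_comm]
  have h2 := congrArg Matrix.det hJ
  rw [Matrix.det_mul, ← this, zero_mul, Matrix.det_one] at h2
  exact zero_ne_one h2

variable {q : ℕ}

theorem mem_SU_iff_matrix (hσ : ∀ x, σ x = x ^ q) {g : SL(n, F)} :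
    g ∈ Cfsg.SU n F q ↔ g.1ᵀ * g.1.map σ = 1 := by
  rw [Forms4.mem_SU_iff]
  have hh : ∀ u v : Fin n → F, Cfsg.hermForm n F q u v = u ⬝ᵥ (σ ∘ v) := fun u v => by
    simp [Cfsg.hermForm, dotProduct, hσ]
  constructor
  · intro h
    ext i j
    have e := h (Pi.single i 1) (Pi.single j 1)
    rw [Matrix.mulVec_single_one, Matrix.mulVec_single_one, hh, hh] at e
    rw [Matrix.mul_apply, Matrix.one_apply]
    refine (Eq.trans ?_ e).trans ?_
    · simp [dotProduct]
    · simp [dotProduct, Pi.single_apply, eq_comm]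
  · intro h u v
    rw [hh, hh, show σ ∘ (g.1 *ᵥ v) = g.1.map σ *ᵥ (σ ∘ v) from
      funext fun i => RingHom.map_mulVec σ g.1 v i, Matrix.dotProduct_mulVec, ← Matrix.vecMul_transpose,
      Matrix.vecMul_vecMul, h, Matrix.vecMul_one]

/-- Odd index subgroups of `PSU_n(2^a)`, `n` a power of two. -/
theorem pronormal_PSU [CharP F 2] (hF : Fintype.card F = q ^ 2) {w : ℕ} (hw : 1 ≤ w)
    (H : Subgroup (Cfsg.PSU (2 ^ w) F q)) (hH : Odd H.index) : Cfsg.IsPronormal H := by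
  haveI : Fact (Nat.Prime 2) := ⟨Nat.prime_two⟩
  obtain ⟨σ, hσ, hσσ⟩ := CfsgLib.FieldEmb.exists_conj hF
  have hn : Even (2 ^ w) := Nat.even_pow.2 ⟨even_two, by omega⟩
  have hσ1 : σ ≠ RingHom.id F := by
    intro e
    obtain ⟨r, hr, hrn⟩ := Forms4.exists_norm_one_sq_ne_one hF |>.imp fun r h => And.intro h.2.1 h.2.2
    refine hrn ?_
    have hq : r ^ q = r := by rw [← hσ, e, RingHom.id_apply]
    rw [pow_succ, hq] at hr
    rw [sq]; exact hr
  obtain ⟨P, hP⟩ := exists_basis (n := 2 ^ w) hn hσ1 hσσ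
  set inc := (Matrix.SpecialLinearGroup.toGL : SL(2 ^ w, F) →* GL (Fin (2 ^ w)) F)
  set J : Matrix (Fin (2 ^ w)) (Fin (2 ^ w)) F := Matrix.of fun i j => if j = i.rev then (1 : F) else 0
  have hdet : ∀ g : GL (Fin (2 ^ w)) F, (P⁻¹ * g * P).1.det = g.1.det := fun g => by
    rw [Units.val_mul, Units.val_mul, Matrix.det_mul_right_comm, ← Units.val_mul, inv_mul_cancel,
      Units.val_one, Matrix.one_mul]
  have hPt : P.1ᵀ * (P⁻¹).1ᵀ = 1 := by
    rw [← Matrix.transpose_mul, ← Units.val_mul, inv_mul_cancel, Units.val_one, Matrix.transpose_one]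
  have hPm : (P⁻¹).1.map σ * P.1.map σ = 1 := by
    rw [← Matrix.map_mul, ← Units.val_mul, inv_mul_cancel, Units.val_one, Matrix.map_one _ (map_zero _) (map_one _)]
  have key : ∀ g : GL (Fin (2 ^ w)) F,
      theta σ (P⁻¹ * g * P) = P⁻¹ * g * P ↔ g.1ᵀ * g.1.map σ = 1 := by
    intro g
    rw [fixed_iff hσσ]
    have e : (P⁻¹ * g * P).1ᵀ * J * (P⁻¹ * g * P).1.map σ = P.1ᵀ * (g.1ᵀ * g.1.map σ) * P.1.map σ := by
      rw [← hP, Units.val_mul, Units.val_mul, Matrix.transpose_mul, Matrix.transpose_mul, Matrix.map_mul,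
        Matrix.map_mul]
      rw [show P.1ᵀ * (g.1ᵀ * (P⁻¹).1ᵀ) * (P.1ᵀ * P.1.map σ) * ((P⁻¹).1.map σ * g.1.map σ * P.1.map σ) =
        P.1ᵀ * (g.1ᵀ * ((P⁻¹).1ᵀ * P.1ᵀ) * (P.1.map σ * (P⁻¹).1.map σ) * g.1.map σ) * P.1.map σ by
        simp only [Matrix.mul_assoc], mul_eq_one_comm.1 hPt, mul_eq_one_comm.1 hPm, Matrix.mul_one,
        Matrix.mul_one]
    change _ = J ↔ _
    rw [e, ← hP]
    constructor
    · intro h
      have := congrArg (fun A => (P⁻¹).1ᵀ * A * (P⁻¹).1.map σ) h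
      change (P⁻¹).1ᵀ * (P.1ᵀ * (g.1ᵀ * g.1.map σ) * P.1.map σ) * (P⁻¹).1.map σ =
        (P⁻¹).1ᵀ * (P.1ᵀ * P.1.map σ) * (P⁻¹).1.map σ at this
      rw [show (P⁻¹).1ᵀ * (P.1ᵀ * (g.1ᵀ * g.1.map σ) * P.1.map σ) * (P⁻¹).1.map σ =
          ((P⁻¹).1ᵀ * P.1ᵀ) * (g.1ᵀ * g.1.map σ) * (P.1.map σ * (P⁻¹).1.map σ) by simp only [Matrix.mul_assoc],
        show (P⁻¹).1ᵀ * (P.1ᵀ * P.1.map σ) * (P⁻¹).1.map σ =
          ((P⁻¹).1ᵀ * P.1ᵀ) * (P.1.map σ * (P⁻¹).1.map σ) by simp only [Matrix.mul_assoc],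
        mul_eq_one_comm.1 hPt, mul_eq_one_comm.1 hPm, Matrix.one_mul, Matrix.mul_one, Matrix.one_mul] at this
      exact this
    · intro h; rw [h, Matrix.mul_one]
  let φ : Cfsg.SU (2 ^ w) F q →* M (2 ^ w) σ :=
    ((MulAut.conj P⁻¹).toMonoidHom.comp (inc.comp (Cfsg.SU (2 ^ w) F q).subtype)).codRestrict _ fun g => by
      show P⁻¹ * inc g.1 * (P⁻¹)⁻¹ ∈ M _ σ
      rw [inv_inv, mem_M, hdet, key]
      exact ⟨(mem_SU_iff_matrix hσ).1 g.2, g.1.2⟩
  have hφ : Function.Bijective φ := by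
    refine ⟨fun a b h => ?_, fun y => ?_⟩
    · have := congrArg Subtype.val h
      exact Subtype.ext (Matrix.SpecialLinearGroup.toGL_injective ((MulAut.conj P⁻¹).injective this))
    · set g := P * y.1 * P⁻¹ with hgdef
      have hy : P⁻¹ * g * P = y.1 := by rw [hgdef]; group
      have hd : g.1.det = 1 := by rw [← hdet, hy]; exact (mem_M.1 y.2).2
      refine ⟨⟨⟨g.1, hd⟩, (mem_SU_iff_matrix hσ).2 ((key g).1 (by rw [hy]; exact (mem_M.1 y.2).1))⟩, ?_⟩
      refine Subtype.ext ?_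
      show P⁻¹ * inc ⟨g.1, hd⟩ * (P⁻¹)⁻¹ = y.1
      rw [inv_inv, show inc ⟨g.1, hd⟩ = g from Units.ext rfl, hy]
  -- the centre is trivial
  have hz : Subgroup.center (Cfsg.SU (2 ^ w) F q) = ⊥ := by
    rw [Subgroup.eq_bot_iff_forall]
    intro z hz
    obtain ⟨r, hr⟩ := Forms4.exists_scalar_of_mem_center hF (Nat.le_self_pow (by omega) 2) hz
    have hr1 : r = 1 := by
      have hdz := z.1.2
      rw [hr, Matrix.det_smul, Matrix.det_one, mul_one, Fintype.card_fin] at hdz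
      have : (r - 1) ^ 2 ^ w = 0 := by rw [sub_pow_char_pow, one_pow, hdz, sub_self]
      exact sub_eq_zero.1 (eq_zero_of_pow_eq_zero this)
    apply Subtype.ext
    apply Subtype.ext
    rw [hr, hr1, one_smul]
    rfl
  let π := QuotientGroup.mk' (Subgroup.center (Cfsg.SU (2 ^ w) F q))
  let e₁ : Cfsg.SU (2 ^ w) F q ≃* Cfsg.PSU (2 ^ w) F q :=
    MulEquiv.ofBijective π
      ⟨(MonoidHom.ker_eq_bot_iff _).1 (by rw [QuotientGroup.ker_mk', hz]), QuotientGroup.mk'_surjective _⟩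
  let e : M (2 ^ w) σ ≃* Cfsg.PSU (2 ^ w) F q := (MulEquiv.ofBijective φ hφ).symm.trans e₁
  refine isPronormal_of_equiv e H (pronormal hn _ ?_)
  rwa [Subgroup.index_comap_of_surjective (f := e.toMonoidHom) H e.surjective]

end CfsgLib.PronormalPSU.EvenChar
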