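import Cfsg.Agent.PronormalPSL.Descent
import Cfsg.Agent.FusionSub.GUTwoSylow

/-!
# Sylow 2-subgroups of `GU_n(q)`, `q` odd, `n` a power of two, and odd index subgroups of `PSU_n(q)`
-/

set_option autoImplicit false
set_option linter.unusedSectionVars false

namespace CfsgLib.PronormalPSU.Tower

open Matrix CfsgLib.Forms CfsgLib.PronormalPSL.Tower
open scoped MatrixGroups

variable {F : Type*} [Field F] [Fintype F] {q : ℕ}

/-! ### The two-part of the order -/

/-- The exponent of two in the factor `q^i - (-1)^i`. -/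
noncomputable def valU (q i : ℕ) : ℕ := (u q i).factorization 2

theorem valU_even {q i : ℕ} (h : i % 2 = 0) : valU q i = val q i := by
  simp [valU, val, u, Nat.even_iff, h]

theorem valU_odd {q : ℕ} (hq : q % 2 = 1) (k : ℕ) : valU q (2 * k + 1) = (q + 1).factorization 2 := by
  have h : ∀ k, ∃ c, c % 2 = 1 ∧ q ^ (2 * k + 1) + 1 = (q + 1) * c := by
    intro k
    induction k with
    | zero => exact ⟨1, rfl, by simp⟩
    | succ k ih =>
      obtain ⟨c, hc, e⟩ := ih
      have h1 : q - 1 ≤ q * q * c := by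
        have : 1 ≤ c := by omega
        calc q - 1 ≤ q := Nat.sub_le _ _
          _ ≤ q * q * c := by rw [mul_assoc]; exact Nat.le_mul_of_pos_right q (Nat.mul_pos (by omega) (by omega))
      refine ⟨q * q * c - (q - 1), ?_, ?_⟩
      · have h2 : (q * q * c) % 2 = 1 := by simp [Nat.mul_mod, hq, hc]
        omega
      · obtain ⟨p, rfl⟩ : ∃ p, q = p + 1 := ⟨q - 1, by omega⟩
        simp only [Nat.add_sub_cancel] at h1 ⊢
        rw [Nat.mul_sub]
        refine (Nat.sub_eq_of_eq_add ?_).symm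
        rw [show 2 * (k + 1) + 1 = (2 * k + 1) + 2 by ring, pow_add]
        calc (p + 1 + 1) * ((p + 1) * (p + 1) * c)
            = (p + 1) * (p + 1) * ((p + 1 + 1) * c) := by ring
          _ = (p + 1) ^ (2 * k + 1) * (p + 1) ^ 2 + 1 + (p + 1 + 1) * p := by rw [← e]; ring
  obtain ⟨c, hc, e⟩ := h k
  have : valU q (2 * k + 1) = (q ^ (2 * k + 1) + 1).factorization 2 := by
    simp [valU, u, Nat.even_iff]
  rw [this, e, Nat.factorization_mul (by omega) (by omega), Finsupp.add_apply, factorization_odd hc,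
    add_zero]

/-- The exponent of two in `|GU_n(q)|`. -/
noncomputable def valGU (q n : ℕ) : ℕ := ∑ i ∈ Finset.range n, valU q (i + 1)

theorem valGU_double {q j : ℕ} (hq : q % 2 = 1) (hq2 : 2 ≤ q) (hj : 0 < j) :
    valGU q (2 * 2 ^ j) = 2 * valGU q (2 ^ j) + 1 := by
  have hpos : 0 < 2 ^ j := pow_pos two_pos j
  obtain ⟨m, hm⟩ : ∃ m, 2 ^ j = m + 1 := ⟨2 ^ j - 1, by omega⟩
  have hev : 2 ^ j % 2 = 0 := by
    obtain ⟨k, rfl⟩ := Nat.exists_eq_add_of_lt hj
    rw [pow_succ]; omega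
  unfold valGU
  rw [two_mul (2 ^ j), Finset.sum_range_add, hm, Finset.sum_range_succ (fun x => valU q (m + 1 + x + 1)),
    Finset.sum_range_succ (fun i => valU q (i + 1))]
  have e1 : ∀ x ∈ Finset.range m, valU q (m + 1 + x + 1) = valU q (x + 1) := by
    intro x hx
    rw [Finset.mem_range] at hx
    rw [add_assoc (m + 1) x 1, ← hm]
    by_cases hp : (x + 1) % 2 = 0
    · rw [valU_even (by omega), valU_even hp]
      exact val_add hq hq2 (Nat.succ_pos x) hpos (val_lt hq hq2 j _ (Nat.succ_pos x) (by omega))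
    · obtain ⟨a, ha⟩ : ∃ a, x + 1 = 2 * a + 1 := ⟨(x + 1) / 2, by omega⟩
      obtain ⟨b, hb⟩ : ∃ b, 2 ^ j = 2 * b := ⟨2 ^ j / 2, by omega⟩
      rw [ha, hb, show 2 * b + (2 * a + 1) = 2 * (b + a) + 1 by ring, valU_odd hq, valU_odd hq]
  rw [Finset.sum_congr rfl e1, show m + 1 + m + 1 = 2 * (m + 1) by ring, ← hm,
    valU_even (i := 2 * 2 ^ j) (by omega), valU_even hev, (val_double hq hq2 hpos).2 hev]
  omega

theorem factorization_card_GU (hF : Fintype.card F = q ^ 2) (hodd : q % 2 = 1) (n : ℕ) :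
    (Nat.card (Cfsg.GU n F q)).factorization 2 = valGU q n := by
  have hq := two_le_q hF
  rw [card_GU hF, Nat.factorization_mul (pow_ne_zero _ (by omega))
    (Finset.prod_ne_zero_iff.2 fun i _ => (u_pos hq i).ne'), Finsupp.add_apply,
    factorization_odd (by simp [Nat.pow_mod, hodd]), zero_add,
    Nat.factorization_prod_apply (fun i _ => (u_pos hq i).ne')]
  rfl

/-! ### Unitary towers -/

section
variable (σ : F →+* F) {I : Type*} [Fintype I] [DecidableEq I]

/-- A unitary matrix. -/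
def IsUni (g : Matrix I I F) : Prop := gᵀ * g.map σ = 1

/-- The properties carried up the unitary tower. -/
structure IsTowerU (q : ℕ) (S : Subgroup (GL I F)) : Prop extends IsCore S where
  uni : ∀ x ∈ S, IsUni σ x.1
  card : (Nat.card S).factorization 2 = valGU q (Fintype.card I)

variable {σ} {S : Subgroup (GL I F)}

theorem IsTowerU.step (hF : Fintype.card F = q ^ 2) (hodd : q % 2 = 1) {j : ℕ} (hj : 0 < j)
    (hI : Fintype.card I = 2 ^ j) (hS : IsTowerU σ q S) :
    IsTowerU σ q (wreath S) ∧ NormDet (wreath S) := by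
  haveI : Nonempty I := Fintype.card_pos_iff.1 (by rw [hI]; exact pow_pos two_pos j)
  have hoddF : Odd (Fintype.card F) := by rw [hF]; exact (Nat.odd_iff.2 hodd).pow
  obtain ⟨h1, h2⟩ := hS.toIsCore.step hoddF (hI ▸ dvd_pow_self 2 hj.ne')
  refine ⟨⟨h1, ?_, ?_⟩, h2⟩
  · rintro _ ⟨x, hx, y, hy, rfl | rfl⟩
    · have a := hS.uni x hx
      have b := hS.uni y hy
      unfold IsUni at a b ⊢
      rw [coe_blk, fromBlocks_transpose, fromBlocks_map, fromBlocks_multiply]
      simp [a, b, fromBlocks_one]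
    · have a := hS.uni x hx
      have b := hS.uni y hy
      unfold IsUni at a b ⊢
      rw [blk_sw, fromBlocks_transpose, fromBlocks_map, fromBlocks_multiply]
      simp [a, b, fromBlocks_one]
  · rw [card_wreath, Nat.factorization_mul two_ne_zero (mul_ne_zero Nat.card_pos.ne' Nat.card_pos.ne'),
      Finsupp.add_apply, Nat.factorization_mul Nat.card_pos.ne' Nat.card_pos.ne', Finsupp.add_apply,
      Nat.Prime.factorization_self Nat.prime_two, Fintype.card_sum, hS.card, hI, ← two_mul (2 ^ j),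
      valGU_double hodd (two_le_q hF) hj]
    omega

theorem IsTowerU.map {J : Type*} [Fintype J] [DecidableEq J] (e : I ≃ J)
    (hS : IsTowerU σ q S) (hN : NormDet S) :
    ∃ T : Subgroup (GL J F), IsTowerU σ q T ∧ NormDet T := by
  obtain ⟨h1, h2⟩ := hS.toIsCore.map e hN
  refine ⟨_, ⟨h1, ?_, ?_⟩, h2⟩
  · rintro _ ⟨x, hx, rfl⟩
    have a := hS.uni x hx
    unfold IsUni at a ⊢
    show (Matrix.reindex e e x.1)ᵀ * (Matrix.reindex e e x.1).map σ = 1
    simp [← Matrix.submatrix_map, a]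
  · rw [← Fintype.card_congr e, ← hS.card]
    exact congrArg (fun m : ℕ => m.factorization 2)
      (Subgroup.card_map_of_injective (MulEquiv.injective _))

end

theorem mem_GU_of_isUni {n : ℕ} {σ : F →+* F} (hσ : ∀ x, σ x = x ^ q) {g : GL (Fin n) F}
    (hg : IsUni σ g.1) : g ∈ Cfsg.GU n F q := by
  intro a b
  have hh : ∀ u v : Fin n → F, Cfsg.hermForm n F q u v = u ⬝ᵥ (σ ∘ v) := fun u v => by
    simp [Cfsg.hermForm, dotProduct, hσ]
  show Cfsg.hermForm n F q (g.1 *ᵥ a) (g.1 *ᵥ b) = Cfsg.hermForm n F q a b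
  rw [hh, hh, show σ ∘ (g.1 *ᵥ b) = g.1.map σ *ᵥ (σ ∘ b) from
    funext fun i => RingHom.map_mulVec σ g.1 b i, Matrix.dotProduct_mulVec, ← Matrix.vecMul_transpose,
    Matrix.vecMul_vecMul, hg, Matrix.vecMul_one]

theorem isUni_of_mem_GU {n : ℕ} {σ : F →+* F} (hσ : ∀ x, σ x = x ^ q) {g : GL (Fin n) F}
    (hg : g ∈ Cfsg.GU n F q) : IsUni σ g.1 := by
  have hh : ∀ u v : Fin n → F, Cfsg.hermForm n F q u v = u ⬝ᵥ (σ ∘ v) := fun u v => by
    simp [Cfsg.hermForm, dotProduct, hσ]
  ext i j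
  have e : Cfsg.hermForm n F q (g.1 *ᵥ Pi.single i 1) (g.1 *ᵥ Pi.single j 1) =
      Cfsg.hermForm n F q (Pi.single i 1) (Pi.single j 1) := hg _ _
  rw [Matrix.mulVec_single_one, Matrix.mulVec_single_one, hh, hh] at e
  rw [Matrix.mul_apply, Matrix.one_apply]
  refine (Eq.trans ?_ e).trans ?_
  · simp [dotProduct]
  · simp [dotProduct, Pi.single_apply, eq_comm]

/-- The base of the tower. -/
theorem base (hF : Fintype.card F = q ^ 2) (hodd : q % 2 = 1) {σ : F →+* F} (hσ : ∀ x, σ x = x ^ q) :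
    ∃ S : Subgroup (GL (Fin 2) F), IsTowerU σ q S := by
  haveI : Fact (Nat.Prime 2) := ⟨Nat.prime_two⟩
  open CfsgLib.FusionSub in
  obtain ⟨P, hw, hΔ⟩ := GUTwo.exists_sylow (F := F) hF
  have hoddF : Odd (Fintype.card F) := by rw [hF]; exact (Nat.odd_iff.2 hodd).pow
  have h2 : (2 : F) ≠ 0 := Linear.two_ne_zero_of_odd hoddF
  have hneg : orderOf (-1 : Fˣ) = 2 ^ 1 := by
    rw [pow_one]
    refine orderOf_eq_prime (by simp) fun e => ?_
    have := congrArg Units.val e
    simp at this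
    exact h2 (by linear_combination -this)
  have hm : (-1 : Fˣ) ∈ FusionSub.GUTwo.normOne F q := FusionSub.GUTwo.neg_one_mem_normOne hodd
  have hD1 := hΔ (-1) 1 hm (one_mem _) ⟨1, hneg⟩ ⟨0, by simp⟩
  have hD2 := hΔ (-1) (-1) hm hm ⟨1, hneg⟩ ⟨1, hneg⟩
  set S := (P : Subgroup (Cfsg.GU 2 F q)).map (Cfsg.GU 2 F q).subtype with hSdef
  have memS : ∀ x : Cfsg.GU 2 F q, x ∈ (P : Subgroup (Cfsg.GU 2 F q)) → x.1 ∈ S :=
    fun x hx => ⟨x, hx, rfl⟩
  open CfsgLib.FusionSub.GLTwo in
  refine ⟨S, ⟨P.isPGroup'.map _, ?_, ?_, ?_⟩, ?_, ?_⟩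
  · rw [show (-1 : GL (Fin 2) F) = Δ (-1, -1) from Units.ext (by
      ext i j; fin_cases i <;> fin_cases j <;> simp [coe_Δ])]
    exact memS _ hD2
  · intro X hX
    obtain ⟨m, hm, ⟨e⟩⟩ := FusionSub.GUTwo.inc_preimage_quaternion hF hodd P
    haveI : NeZero (2 ^ m) := ⟨pow_ne_zero _ two_ne_zero⟩
    haveI : Fact (1 < 2 * 2 ^ m) := ⟨by have := Nat.one_le_two_pow (n := m); omega⟩
    -- the element `J`
    have hJ : (FusionSub.GLTwo.inc (⟨!![0, 1; -1, 0], by simp [Matrix.det_fin_two]⟩ :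
        Matrix.SpecialLinearGroup (Fin 2) F)) = FusionSub.GLTwo.swap * Δ (-1, 1) := by
      apply Units.ext
      show !![(0 : F), 1; -1, 0] = _
      rw [Units.val_mul, coe_swap, coe_Δ]
      ext i j; fin_cases i <;> fin_cases j <;> simp [Matrix.mul_apply]
    let J0 : Matrix.SpecialLinearGroup (Fin 2) F := ⟨!![0, 1; -1, 0], by simp [Matrix.det_fin_two]⟩
    have hJGU : FusionSub.GLTwo.inc J0 ∈ Cfsg.GU 2 F q := by
      rw [hJ]
      exact mul_mem FusionSub.GUTwo.swap_mem (FusionSub.GUTwo.Δ_mem hF (FusionSub.GUTwo.neg_one_mem_normOne hodd) (one_mem _))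
    let J : Cfsg.SU 2 F q := ⟨J0, hJGU⟩
    have hJP : J ∈ (P : Subgroup (Cfsg.GU 2 F q)).comap FusionSub.GUTwo.inc := by
      rw [Subgroup.mem_comap, show FusionSub.GUTwo.inc J =
        (⟨FusionSub.GLTwo.swap, FusionSub.GUTwo.swap_mem⟩ : Cfsg.GU 2 F q) *
          ⟨Δ (-1, 1), FusionSub.GUTwo.Δ_mem hF (FusionSub.GUTwo.neg_one_mem_normOne hodd) (one_mem _)⟩
        from Subtype.ext hJ]
      exact mul_mem hw hD1
    obtain ⟨y, hy⟩ : ∃ y : (P : Subgroup (Cfsg.GU 2 F q)).comap FusionSub.GUTwo.inc,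
        ⟨J, hJP⟩ * y ≠ y * ⟨J, hJP⟩ := by
      by_contra h
      simp only [not_exists, not_not] at h
      have hc : ∀ u, e ⟨J, hJP⟩ * u = u * e ⟨J, hJP⟩ := fun u => by
        have := congrArg e (h (e.symm u))
        simpa using this
      cases hq : e ⟨J, hJP⟩ with
      | a l =>
        have := hc (QuaternionGroup.xa 0)
        rw [hq, QuaternionGroup.a_mul_xa, QuaternionGroup.xa_mul_a, QuaternionGroup.xa.injEq] at this
        have hsq : e (⟨J, hJP⟩ * ⟨J, hJP⟩) = 1 := by
          rw [map_mul, hq, QuaternionGroup.a_mul_a, QuaternionGroup.one_def]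
          congr 1
          linear_combination -this
        rw [← map_one e] at hsq
        have := congrArg (fun v => (v.1.1 : Matrix.SpecialLinearGroup (Fin 2) F).1 0 0) (e.injective hsq)
        change (!![0, 1; -1, 0] * !![0, 1; -1, 0] : Matrix (Fin 2) (Fin 2) F) 0 0 = (1 : Matrix (Fin 2) (Fin 2) F) 0 0 at this
        simp [Matrix.mul_apply] at this
        exact h2 (by linear_combination -this)
      | xa l =>
        have := hc (QuaternionGroup.a 1)
        rw [hq, QuaternionGroup.a_mul_xa, QuaternionGroup.xa_mul_a, QuaternionGroup.xa.injEq] at this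
        have hm2 : (2 : ZMod (2 * 2 ^ m)) = 0 := by linear_combination this
        have hd := (ZMod.natCast_eq_zero_iff 2 (2 * 2 ^ m)).1 (by exact_mod_cast hm2)
        have := Nat.le_of_dvd two_pos hd
        have := Nat.pow_le_pow_right two_pos hm
        omega
    have h1 := hX _ (memS _ (Subgroup.mem_comap.1 hJP)) J0.2
    have h2' := hX _ (memS _ (Subgroup.mem_comap.1 y.2)) y.1.1.2
    have hne : J0.1 * y.1.1.1 ≠ y.1.1.1 * J0.1 := fun h => hy (Subtype.ext (Subtype.ext (Subtype.ext h)))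
    refine ⟨X 0 0, ?_⟩
    change X * (!![0, 1; -1, 0] : Matrix (Fin 2) (Fin 2) F) = !![0, 1; -1, 0] * X at h1
    have h00 := congrFun (congrFun h1 0) 0
    have h01 := congrFun (congrFun h1 0) 1
    have hX' : X = !![X 0 0, X 0 1; -X 0 1, X 0 0] := by
      simp [Matrix.mul_apply] at h00 h01
      ext i j; fin_cases i <;> fin_cases j <;> simp
      all_goals first | linear_combination -h00 | linear_combination h00 | linear_combination -h01 | linear_combination h01
    by_cases hb : X 0 1 = 0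
    · conv_lhs => rw [hX', hb]
      ext i j; fin_cases i <;> fin_cases j <;> simp
    · exfalso
      apply hne
      have hXJ : X = X 0 0 • (1 : Matrix (Fin 2) (Fin 2) F) + X 0 1 • J0.1 := by
        conv_lhs => rw [hX']
        ext i j; fin_cases i <;> fin_cases j <;> simp [J0]
      change X * y.1.1.1 = y.1.1.1 * X at h2'
      rw [hXJ, Matrix.add_mul, Matrix.mul_add, Matrix.smul_mul, Matrix.mul_smul, Matrix.smul_mul,
        Matrix.mul_smul, Matrix.one_mul, Matrix.mul_one] at h2'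
      exact smul_right_injective _ hb (add_left_cancel h2')
  · intro g hg h
    have hgN : g ∈ Subgroup.normalizer (S : Set (GL (Fin 2) F)) := by
      refine Subgroup.mem_normalizer_fintype (fun x hx => h x hx)
    let e := Subgroup.equivMapOfInjective (P : Subgroup (Cfsg.GU 2 F q)) (Cfsg.GU 2 F q).subtype
      (Subgroup.subtype_injective _)
    have hAut : IsPGroup 2 (MulAut S) :=
      (FusionSub.GUTwo.isPGroup_mulAut hF hodd P hw hΔ).of_equiv (MulAut.congr e)
    obtain ⟨k, hk⟩ := hAut (S.normalizerMonoidHom ⟨g, hgN⟩)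
    rw [← map_pow] at hk
    have hfix : ∀ x ∈ S, Commute (g ^ 2 ^ k) x := fun x hx => by
      have h1 : g ^ 2 ^ k * x * (g ^ 2 ^ k)⁻¹ = x :=
        congrArg Subtype.val (DFunLike.congr_fun hk (⟨x, hx⟩ : S))
      exact mul_inv_eq_iff_eq_mul.1 h1
    have hgz : g ∈ Subgroup.zpowers (g ^ 2 ^ k) :=
      mem_zpowers_pow_iff.2 ((Nat.coprime_two_left.2 hg).pow_left k)
    have hcom : ∀ x ∈ S, g * x = x * g := fun x hx => by
      obtain ⟨l, hl⟩ := Subgroup.mem_zpowers_iff.1 hgz
      rw [← hl]; exact (hfix x hx).zpow_left l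
    have e1 := congrArg (fun u : GL (Fin 2) F => u.1) (hcom _ (memS _ hw))
    have e2 := congrArg (fun u : GL (Fin 2) F => u.1) (hcom _ (memS _ hD1))
    simp only [Units.val_mul, coe_swap, coe_Δ] at e1 e2
    refine ⟨g.1 0 0, ?_⟩
    have f1 := congrFun (congrFun e1 0) 1
    have f2 := congrFun (congrFun e2 0) 1
    have f3 := congrFun (congrFun e2 1) 0
    simp [Matrix.mul_apply] at f1 f2 f3
    have g01 : g.1 0 1 = 0 := by
      have : (2 : F) * g.1 0 1 = 0 := by first | linear_combination f2 | linear_combination -f2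
      simpa [h2] using this
    have g10 : g.1 1 0 = 0 := by
      have : (2 : F) * g.1 1 0 = 0 := by first | linear_combination f3 | linear_combination -f3
      simpa [h2] using this
    ext i j; fin_cases i <;> fin_cases j <;> simp [g01, g10]
    first | exact f1.symm | exact f1 | linear_combination f1 | linear_combination -f1
  · rintro _ ⟨x, -, rfl⟩
    exact isUni_of_mem_GU hσ x.2
  · rw [hSdef, Subgroup.card_map_of_injective (Subgroup.subtype_injective _), P.card_eq_multiplicity,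
      Nat.prime_two.factorization_pow, Finsupp.single_eq_same, factorization_card_GU hF hodd]
    rfl

/-- Every level. -/
theorem exists_tower (hF : Fintype.card F = q ^ 2) (hodd : q % 2 = 1) {σ : F →+* F} (hσ : ∀ x, σ x = x ^ q) :
    ∀ w : ℕ, ∃ S : Subgroup (GL (Fin (2 ^ (w + 1))) F), IsTowerU σ q S ∧ (1 ≤ w → NormDet S) := by
  intro w
  induction w with
  | zero =>
    obtain ⟨S, hS⟩ := base hF hodd hσ
    exact ⟨S, hS, fun h => absurd h (by omega)⟩
  | succ w ih =>
    obtain ⟨S, hS, -⟩ := ih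
    obtain ⟨h1, h2⟩ := hS.step hF hodd (Nat.succ_pos w) (by simp)
    obtain ⟨T, hT1, hT2⟩ := h1.map (finSumFinEquiv.trans (finCongr (show 2 ^ (w + 1) + 2 ^ (w + 1) = 2 ^ (w + 1 + 1) by ring))) h2
    exact ⟨T, hT1, fun _ => hT2⟩

open CfsgLib.PronormalPSL in
/-- Odd index subgroups of `PSU_n(q)`, `q` odd, `n = 2^(w+1) ≥ 4`. -/
theorem pronormal_PSU (hF : Fintype.card F = q ^ 2) (hodd : q % 2 = 1) {w : ℕ} (hw : 1 ≤ w)
    (H : Subgroup (Cfsg.PSU (2 ^ (w + 1)) F q)) (hH : Odd H.index) : Cfsg.IsPronormal H := by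
  haveI : Fact (Nat.Prime 2) := ⟨Nat.prime_two⟩
  obtain ⟨σ, hσ, -⟩ := CfsgLib.FieldEmb.exists_conj hF
  obtain ⟨T, hT, hNT⟩ := exists_tower hF hodd hσ w
  have hN := hNT hw
  obtain ⟨n, hn⟩ : ∃ n, n = 2 ^ (w + 1) := ⟨_, rfl⟩
  revert T H
  rw [← hn]
  intro H hH T hT _ hN
  set inc := (Matrix.SpecialLinearGroup.toGL : SL(n, F) →* GL (Fin n) F).comp (Cfsg.SU n F q).subtype
  have hinj : Function.Injective inc :=
    Matrix.SpecialLinearGroup.toGL_injective.comp (Subgroup.subtype_injective _)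
  have hincGU : ∀ s, inc s ∈ Cfsg.GU n F q := fun s => s.2
  have hTle : T ≤ Cfsg.GU n F q := fun x hx => mem_GU_of_isUni hσ (hT.uni x hx)
  set L := T.comap inc with hL
  -- `L` is Sylow
  have hLp : IsPGroup 2 L := hT.two.comap_of_injective inc hinj
  obtain ⟨S, hLS⟩ := hLp.exists_le_sylow
  have hS : (S : Subgroup (Cfsg.SU n F q)) = L := by
    let inc' : Cfsg.SU n F q →* Cfsg.GU n F q := inc.codRestrict _ hincGU
    obtain ⟨P, hP⟩ := (S.isPGroup'.map inc').exists_le_sylow
    have hidx : ¬ 2 ∣ (T.subgroupOf (Cfsg.GU n F q)).index := fun hd => by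
      have hc := congrArg (fun m : ℕ => m.factorization 2) (T.subgroupOf (Cfsg.GU n F q)).card_mul_index
      simp only [Nat.factorization_mul Nat.card_pos.ne' Subgroup.index_ne_zero_of_finite,
        Finsupp.add_apply, factorization_card_GU hF hodd] at hc
      rw [Nat.card_congr (Subgroup.subgroupOfEquivOfLe hTle).toEquiv, hT.card, Fintype.card_fin] at hc
      have := Nat.Prime.factorization_pos_of_dvd Nat.prime_two Subgroup.index_ne_zero_of_finite hd
      omega
    let ST : Sylow 2 (Cfsg.GU n F q) :=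
      IsPGroup.toSylow (hT.two.comap_of_injective _ (Subgroup.subtype_injective _) :
        IsPGroup 2 (T.subgroupOf (Cfsg.GU n F q))) hidx
    obtain ⟨c, hc⟩ := MulAction.exists_smul_eq (Cfsg.GU n F q) P ST
    refine (Subgroup.eq_of_le_of_card_ge hLS ?_).symm
    -- conjugating by `c` maps `S` into `L`
    have hcs : ∀ s ∈ (S : Subgroup (Cfsg.SU n F q)), c.1 * inc s * c.1⁻¹ ∈ T := fun s hs => by
      have h1 : c * inc' s * c⁻¹ ∈ ((c • P : Sylow 2 (Cfsg.GU n F q)) : Subgroup (Cfsg.GU n F q)) := by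
        rw [coe_smul_eq_cj, mem_cj]
        simpa [mul_assoc] using hP ⟨s, hs, rfl⟩
      rwa [hc] at h1
    have hdet : ∀ s : Cfsg.SU n F q, (c.1 * inc s * c.1⁻¹).1.det = 1 := fun s => by
      rw [Units.val_mul, Units.val_mul, Matrix.det_mul_right_comm, ← Units.val_mul, mul_inv_cancel,
        Units.val_one, Matrix.one_mul]
      exact s.1.2
    have hmem : ∀ s : Cfsg.SU n F q,
        (⟨(c.1 * inc s * c.1⁻¹).1, hdet s⟩ : SL(n, F)) ∈ Cfsg.SU n F q := fun s =>
      (mul_mem (mul_mem c.2 (hincGU s)) (inv_mem c.2) : c.1 * inc s * c.1⁻¹ ∈ Cfsg.GU n F q)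
    refine Nat.card_le_card_of_injective
      (fun s : (S : Subgroup (Cfsg.SU n F q)) => (⟨⟨⟨(c.1 * inc s.1 * c.1⁻¹).1, hdet s.1⟩, hmem s.1⟩, by
        show inc ⟨⟨(c.1 * inc s.1 * c.1⁻¹).1, hdet s.1⟩, hmem s.1⟩ ∈ T
        have e : inc ⟨⟨(c.1 * inc s.1 * c.1⁻¹).1, hdet s.1⟩, hmem s.1⟩ = c.1 * inc s.1 * c.1⁻¹ := Units.ext rfl
        rw [e]
        exact hcs s.1 s.2⟩ : L)) ?_
    intro s t e
    have e' : (c.1 * inc s.1 * c.1⁻¹).1 = (c.1 * inc t.1 * c.1⁻¹).1 := congrArg (fun u : L => u.1.1.1) e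
    have := Units.ext e'
    exact Subtype.ext (hinj (mul_left_cancel (mul_right_cancel this)))
  -- it is self-normalising
  have hNS : ∀ g ∈ Subgroup.normalizer ((S : Subgroup (Cfsg.SU n F q)) : Set (Cfsg.SU n F q)),
      g ∈ (S : Subgroup (Cfsg.SU n F q)) := by
    intro g hg
    obtain ⟨a, o, ho, hao⟩ := Nat.exists_eq_pow_mul_and_not_dvd (orderOf_pos g).ne' 2 (by norm_num)
    refine mem_of_two_element S hg ⟨a, ?_⟩
    have ho' : Odd o := Nat.not_even_iff_odd.1 fun he => ho he.two_dvd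
    set h := g ^ 2 ^ a with hh
    have hho : h ^ o = 1 := by rw [hh, ← pow_mul, ← hao, pow_orderOf_eq_one]
    have hhN : h ∈ Subgroup.normalizer ((S : Subgroup (Cfsg.SU n F q)) : Set (Cfsg.SU n F q)) := pow_mem hg _
    obtain ⟨c, hc⟩ := hN (inc h) (ho'.of_dvd_nat (orderOf_dvd_of_pow_eq_one (by rw [← map_pow, hho, map_one])))
      fun x hx hxd => by
        let x' : Cfsg.SU n F q := ⟨⟨x.1, hxd⟩, (hTle hx : x ∈ Cfsg.GU n F q)⟩
        have hx' : inc x' = x := Units.ext rfl
        have hmem : x' ∈ (S : Subgroup (Cfsg.SU n F q)) := by rw [hS, hL, Subgroup.mem_comap, hx']; exact hx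
        have := (Subgroup.mem_normalizer_iff.1 hhN x').1 hmem
        rw [hS, hL, Subgroup.mem_comap, map_mul, map_mul, map_inv, hx'] at this
        exact this
    have hd : c ^ n = 1 := by
      have e := h.1.2
      rw [show h.1.1 = c • (1 : Matrix (Fin n) (Fin n) F) from hc, Matrix.det_smul, Matrix.det_one,
        mul_one, Fintype.card_fin] at e
      exact e
    have hco : c ^ o = 1 := by
      have e := congrArg (fun u : GL (Fin n) F => u.1) (show inc h ^ o = 1 by rw [← map_pow, hho, map_one])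
      simp only [Units.val_pow_eq_pow_val, hc, Units.val_one, _root_.smul_pow, one_pow] at e
      have hpos : 0 < n := hn ▸ pow_pos two_pos _
      have := congrFun (congrFun e ⟨0, hpos⟩) ⟨0, hpos⟩
      simpa using this
    have hc1 : c = 1 := by
      have hd' := Nat.dvd_gcd (orderOf_dvd_of_pow_eq_one hd) (orderOf_dvd_of_pow_eq_one hco)
      rw [hn, Nat.Coprime.gcd_eq_one (Nat.Coprime.pow_left _ (Nat.coprime_two_left.2 ho')), Nat.dvd_one] at hd'
      exact orderOf_eq_one_iff.1 hd'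
    apply hinj
    apply Units.ext
    show (inc h).1 = (inc 1).1
    rw [map_one, hc, hc1, one_smul, Units.val_one]
  -- descend
  set π := QuotientGroup.mk' (Subgroup.center (Cfsg.SU n F q))
  have hker : π.ker ≤ (S : Subgroup (Cfsg.SU n F q)) := by
    rw [QuotientGroup.ker_mk']
    intro z hz
    refine hNS z ?_
    rw [Subgroup.mem_normalizer_iff]
    intro x
    rw [show z * x * z⁻¹ = x by rw [← Subgroup.mem_center_iff.1 hz x, mul_inv_cancel_right]]
  have hsurj : Function.Surjective π := QuotientGroup.mk'_surjective _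
  let S' : Sylow 2 (Cfsg.PSU n F q) :=
    IsPGroup.toSylow (S.isPGroup'.map π) (by
      rw [Subgroup.index_map_eq _ hsurj hker]
      exact S.not_dvd_index)
  refine pronormal_of_self_normalizing S' (le_antisymm (fun y hy => ?_) Subgroup.le_normalizer) H
    (Nat.two_dvd_ne_zero.2 (Nat.odd_iff.1 hH))
  obtain ⟨g, rfl⟩ := hsurj y
  refine ⟨g, hNS g ?_, rfl⟩
  have mem : ∀ x, π x ∈ (S : Subgroup (Cfsg.SU n F q)).map π ↔ x ∈ (S : Subgroup (Cfsg.SU n F q)) := fun x => by
    rw [← Subgroup.mem_comap, Subgroup.comap_map_eq_self hker]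
  rw [Subgroup.mem_normalizer_iff] at hy ⊢
  intro x
  rw [← mem x, ← mem (g * x * g⁻¹), map_mul, map_mul, map_inv]
  exact hy (π x)

end CfsgLib.PronormalPSU.Tower
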